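import Mathlib
import Groth.Agent.CAlgResExt.Package
import Groth.Agent.CAlgCompl.Local

/-!
Existence of Cohen rings.
-/

namespace Groth.Agent.CAlgCohen

universe u

open IsLocalRing

theorem isDVR_of_regular_generator {B : Type u} [CommRing B] [IsLocalRing B] [IsNoetherianRing B] (π : B)
    (hm : maximalIdeal B = Ideal.span {π}) (hπ : ∀ x, π * x = 0 → x = 0) :
    ∃ _ : IsDomain B, IsDiscreteValuationRing B := by
  classical
  have hmem : π ∈ maximalIdeal B := hm ▸ Ideal.subset_span rfl
  have hfac : ∀ x : B, x ≠ 0 → ∃ (n : ℕ) (u : Bˣ), x = u * π ^ n := fun x hx => by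
    have hex : ∃ n, x ∉ maximalIdeal B ^ n := by
      by_contra h
      push Not at h
      exact hx (Ideal.mem_bot.1 (Ideal.iInf_pow_eq_bot_of_isLocalRing (maximalIdeal B)
        (maximalIdeal.isMaximal B).ne_top ▸ Ideal.mem_iInf.2 h))
    set n := Nat.find hex
    have hn : x ∉ maximalIdeal B ^ n := Nat.find_spec hex
    obtain ⟨k, hk⟩ : ∃ k, n = k + 1 := Nat.exists_eq_succ_of_ne_zero fun h => hn (by rw [h, pow_zero, Ideal.one_eq_top]; trivial)
    have hxk : x ∈ maximalIdeal B ^ k := by
      by_contra h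
      exact Nat.find_min hex (show k < n by omega) h
    rw [hm, Ideal.span_singleton_pow, Ideal.mem_span_singleton] at hxk
    obtain ⟨c, rfl⟩ := hxk
    have hc : IsUnit c := by
      by_contra h
      refine hn ?_
      rw [hk, pow_succ]
      exact Ideal.mul_mem_mul (Ideal.pow_mem_pow hmem k) h
    exact ⟨k, hc.unit, by rw [IsUnit.unit_spec, mul_comm]⟩
  have hpow : ∀ (n : ℕ) (x : B), π ^ n * x = 0 → x = 0 := fun n => by
    induction n with
    | zero => intro x h; simpa using h
    | succ n ih => intro x h; rw [pow_succ, mul_assoc] at h; exact hπ x (ih _ h)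
  haveI : NoZeroDivisors B := ⟨fun {a b} hab => or_iff_not_imp_left.2 fun ha => by
    obtain ⟨n, v, rfl⟩ := hfac a ha
    rw [mul_assoc, Units.mul_right_eq_zero] at hab
    exact hpow n b hab⟩
  haveI hd : IsDomain B := NoZeroDivisors.to_isDomain _
  haveI : IsPrincipalIdealRing B := ⟨fun I => by
    obtain rfl | hI := eq_or_ne I ⊥
    · infer_instance
    · obtain ⟨x, hxI, hx⟩ := Submodule.exists_mem_ne_zero_of_ne_bot hI
      obtain ⟨n, u, rfl⟩ := hfac x hx
      have hex : ∃ n, π ^ n ∈ I := ⟨n, by simpa using I.mul_mem_left (↑u⁻¹ : B) hxI⟩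
      refine ⟨⟨π ^ Nat.find hex, le_antisymm (fun y hy => ?_) ?_⟩⟩
      · by_cases hy0 : y = 0
        · subst hy0; exact zero_mem _
        · obtain ⟨k, v, rfl⟩ := hfac y hy0
          refine Ideal.mul_mem_left _ _ (Ideal.mem_span_singleton.2 (pow_dvd_pow π (Nat.find_le ?_)))
          simpa using I.mul_mem_left (↑v⁻¹ : B) hy
      · exact (Ideal.span_singleton_le_iff_mem I).2 (Nat.find_spec hex)⟩
  have hne : π ≠ 0 := fun h => one_ne_zero (hπ 1 (by rw [h, zero_mul]))
  exact ⟨hd, { not_a_field' := fun h => hne (by rw [hm, Ideal.span_singleton_eq_bot] at h; exact h) }⟩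

theorem exists_cohenRing (p : ℕ) [Fact p.Prime] (k : Type u) [Field k] [CharP k p] :
    ∃ (Λ : Type u) (_ : CommRing Λ) (_ : IsDomain Λ) (_ : IsDiscreteValuationRing Λ),
      IsAdicComplete (maximalIdeal Λ) Λ ∧ maximalIdeal Λ = Ideal.span {(p : Λ)} ∧
      Nonempty (ResidueField Λ ≃+* k) := by
  let Z := ULift.{u} ℤ
  let z : Z →+* k := (Int.castRingHom k).comp ULift.ringEquiv.toRingHom
  let 𝔭 : Ideal Z := RingHom.ker z
  haveI : 𝔭.IsPrime := RingHom.ker_isPrime z
  haveI : IsDomain Z := (ULift.ringEquiv : Z ≃+* ℤ).toMulEquiv.isDomain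
  haveI : IsNoetherianRing Z := isNoetherianRing_of_ringEquiv ℤ (ULift.ringEquiv : Z ≃+* ℤ).symm
  let A := Localization.AtPrime 𝔭
  have hu : ∀ y : 𝔭.primeCompl, IsUnit (z y) := fun y => Ne.isUnit y.2
  let χ : A →+* k := IsLocalization.lift (S := A) hu
  have h𝔭 : 𝔭 = Ideal.span {(p : Z)} := by
    ext x
    rw [RingHom.mem_ker, Ideal.mem_span_singleton]
    show ((x.down : ℤ) : k) = 0 ↔ _
    rw [CharP.intCast_eq_zero_iff k p]
    rw [← map_dvd_iff (ULift.ringEquiv : Z ≃+* ℤ), map_natCast]
    rfl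
  have hmA : maximalIdeal A = Ideal.span {(p : A)} := by
    rw [← IsLocalization.AtPrime.map_eq_maximalIdeal 𝔭 A]
    refine (congrArg (Ideal.map (algebraMap Z A)) h𝔭).trans ?_
    rw [Ideal.map_span, Set.image_singleton, map_natCast]
  haveI : IsLocalHom χ := by
    refine ((IsLocalRing.local_hom_TFAE χ).out 0 2).2 ?_
    rw [hmA, Ideal.map_span, Set.image_singleton, map_natCast, CharP.cast_eq_zero k p]
    simp
  letI : Algebra (ResidueField A) k := (ResidueField.lift χ).toAlgebra
  obtain ⟨E, hE⟩ := CAlgResExt.exists_realization A k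
  haveI : IsNoetherianRing A := IsLocalization.isNoetherianRing 𝔭.primeCompl A inferInstance
  haveI := hE inferInstance
  have hmB : maximalIdeal E.B = Ideal.span {(p : E.B)} := by
    rw [← E.map_max, hmA, Ideal.map_span, Set.image_singleton, map_natCast]
  have hpA : (p : A) ≠ 0 := by
    rw [← map_natCast (algebraMap Z A)]
    refine IsLocalization.to_map_ne_zero_of_mem_nonZeroDivisors A 𝔭.primeCompl_le_nonZeroDivisors
      (mem_nonZeroDivisors_of_ne_zero ?_)
    intro h
    have h' := congrArg (ULift.ringEquiv : Z ≃+* ℤ) h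
    rw [map_natCast, map_zero] at h'
    exact (Fact.out : p.Prime).ne_zero (by exact_mod_cast h')
  haveI := E.flat
  have hreg : ∀ x : E.B, (p : E.B) * x = 0 → x = 0 := fun x hx => by
    have h := IsSMulRegular.of_flat (S := E.B) (x := (p : A))
      (fun a b h => mul_left_cancel₀ hpA h)
    rw [map_natCast] at h
    exact h (by simpa using hx)
  obtain ⟨hd, hdvr⟩ := (CAlgCompl.exists_dvr_iff E.B).1 (isDVR_of_regular_generator _ hmB hreg)
  refine ⟨_, inferInstance, hd, hdvr, inferInstance, ?_, ⟨?_⟩⟩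
  · rw [AdicCompletion.maximalIdeal_eq_map, hmB, Ideal.map_span, Set.image_singleton, map_natCast]
  · refine (RingEquiv.ofBijective _ (AdicCompletion.residueField_map_bijective_of_fg
      (maximalIdeal E.B).fg_of_isNoetherianRing)).symm.trans ?_
    exact (Ideal.quotEquivOfEq E.ker.symm).trans (RingHom.quotientKerEquivOfSurjective E.surj)

end Groth.Agent.CAlgCohen
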