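import Mathlib
import Groth.Agent.CAlgFS.CharP

/-!
`Λ/pⁿ` is formally smooth over `ℤ/pⁿ` for a ring `Λ` without `p`-torsion with `Λ/p` a field.
-/

namespace Groth.Agent.CAlgCohen

universe u

open IsLocalRing

theorem formallySmooth_zmod_pow (p : ℕ) [Fact p.Prime] (n : ℕ) (hn : 1 ≤ n) (S : Type u) [CommRing S]
    [Algebra (ZMod (p ^ n)) S] [Module.Flat (ZMod (p ^ n)) S] (K : Type u) [Field K] [CharP K p]
    (g : S →+* K) (hg : Function.Surjective g) (hker : RingHom.ker g ≤ Ideal.span {(p : S)}) :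
    Algebra.FormallySmooth (ZMod (p ^ n)) S := by
  let e : ULift.{u} (ZMod p) ≃+* ZMod p := ULift.ringEquiv
  haveI : CharP (ULift.{u} (ZMod p)) p :=
    (RingHom.charP_iff e.toRingHom e.injective p).2 inferInstance
  letI : Algebra (ULift.{u} (ZMod p)) K := ((ZMod.castHom dvd_rfl K).comp e.toRingHom).toAlgebra
  haveI : Algebra.FormallySmooth (ULift.{u} (ZMod p)) K :=
    CAlgFS.formallySmooth_field_charP p _ K
  let r : ZMod (p ^ n) →+* ULift.{u} (ZMod p) :=
    e.symm.toRingHom.comp (ZMod.castHom (dvd_pow_self p (by omega)) (ZMod p))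
  have hr : Function.Surjective r :=
    e.symm.surjective.comp (ZMod.castHom_surjective (dvd_pow_self p (by omega)))
  have hrp : ∀ a, r a = 0 → a ∈ Ideal.span {(p : ZMod (p ^ n))} := fun a ha => by
    haveI : NeZero (p ^ n) := ⟨pow_ne_zero _ (Fact.out : p.Prime).ne_zero⟩
    obtain ⟨m, rfl⟩ := ZMod.natCast_zmod_surjective a
    rw [map_natCast] at ha
    obtain ⟨d, rfl⟩ := (CharP.cast_eq_zero_iff (ULift.{u} (ZMod p)) p m).1 ha
    rw [Nat.cast_mul]
    exact Ideal.mul_mem_right _ _ (Ideal.subset_span rfl)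
  refine CAlgFS.formallySmooth_of_flat_of_surjective r hr ⟨n, le_bot_iff.1 ?_⟩ g hg (hker.trans ?_)
    (Subsingleton.elim _ _)
  · refine (Ideal.pow_right_mono (fun a ha => hrp a ha) n).trans ?_
    rw [Ideal.span_singleton_pow, ← Nat.cast_pow, ZMod.natCast_self, Ideal.span_singleton_zero]
  · rw [Ideal.span_singleton_le_iff_mem, ← map_natCast (algebraMap (ZMod (p ^ n)) S) p]
    refine Ideal.mem_map_of_mem _ ?_
    rw [RingHom.mem_ker, map_natCast, CharP.cast_eq_zero]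

theorem flat_quot_pow (p : ℕ) [Fact p.Prime] (n : ℕ) (Λ : Type u) [CommRing Λ]
    [Module.Flat ℤ Λ] [Algebra (ZMod (p ^ n)) (Λ ⧸ Ideal.span {((p : Λ) ^ n)})] :
    Module.Flat (ZMod (p ^ n)) (Λ ⧸ Ideal.span {((p : Λ) ^ n)}) := by
  refine CAlgFS.flat_of_surjective (Int.castRingHom (ZMod (p ^ n))) ZMod.intCast_surjective
    (Ideal.Quotient.mk _) Ideal.Quotient.mk_surjective ?_ (Subsingleton.elim _ _)
  rw [Ideal.mk_ker, Ideal.span_singleton_le_iff_mem,
    show (p : Λ) ^ n = algebraMap ℤ Λ ((p : ℤ) ^ n) by simp]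
  refine Ideal.mem_map_of_mem _ ?_
  rw [RingHom.mem_ker, map_pow, map_natCast, ← Nat.cast_pow, ZMod.natCast_self]

end Groth.Agent.CAlgCohen
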