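import Mathlib
import Groth.Agent.CAlgCohen.Smooth

/-!
Maps out of a Cohen ring lift to complete rings.
-/

namespace Groth.Agent.CAlgCohen

universe u

open IsLocalRing

section

variable {Λ : Type u} [CommRing Λ] [IsDomain Λ] [IsDiscreteValuationRing Λ] {p : ℕ}

theorem charP_residueField (hp : p.Prime) (hm : maximalIdeal Λ = Ideal.span {(p : Λ)}) :
    CharP (ResidueField Λ) p := by
  haveI := Fact.mk hp
  refine (CharP.charP_iff_prime_eq_zero hp).2 ?_
  rw [← map_natCast (residue Λ), residue_eq_zero_iff, hm]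
  exact Ideal.subset_span rfl

theorem charZero (hp : p.Prime) (hm : maximalIdeal Λ = Ideal.span {(p : Λ)}) : CharZero Λ := by
  refine charZero_of_inj_zero fun n hn => ?_
  by_contra h0
  obtain ⟨a, m, hm', rfl⟩ := Nat.exists_eq_pow_mul_and_not_dvd h0 p hp.ne_one
  have hpne : (p : Λ) ≠ 0 := fun h => by
    rw [h, Ideal.span_singleton_zero] at hm
    exact IsDiscreteValuationRing.not_a_field Λ hm
  rw [Nat.cast_mul, Nat.cast_pow, mul_eq_zero] at hn
  rcases hn with hn | hn
  · exact pow_ne_zero _ hpne hn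
  · haveI := charP_residueField hp hm
    refine hm' ((CharP.cast_eq_zero_iff (ResidueField Λ) p m).1 ?_)
    rw [← map_natCast (residue Λ), hn, map_zero]

theorem flat_int (hp : p.Prime) (hm : maximalIdeal Λ = Ideal.span {(p : Λ)}) : Module.Flat ℤ Λ := by
  haveI := charZero hp hm
  infer_instance

theorem formallySmooth_quot (hp : p.Prime) (hm : maximalIdeal Λ = Ideal.span {(p : Λ)}) (n : ℕ)
    (hn : 1 ≤ n) [Algebra (ZMod (p ^ n)) (Λ ⧸ Ideal.span {((p : Λ) ^ n)})] :
    Algebra.FormallySmooth (ZMod (p ^ n)) (Λ ⧸ Ideal.span {((p : Λ) ^ n)}) := by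
  haveI := Fact.mk hp
  haveI := flat_int hp hm
  haveI := flat_quot_pow p n Λ
  haveI := charP_residueField hp hm
  let g : Λ ⧸ Ideal.span {((p : Λ) ^ n)} →+* ResidueField Λ := Ideal.Quotient.factor (by
    rw [Ideal.span_singleton_le_iff_mem, hm, Ideal.mem_span_singleton]
    exact dvd_pow_self _ (by omega))
  refine formallySmooth_zmod_pow p n hn _ (ResidueField Λ) g (Ideal.Quotient.factor_surjective _) ?_
  intro x hx
  obtain ⟨y, rfl⟩ := Ideal.Quotient.mk_surjective x
  have hy : y ∈ maximalIdeal Λ := (residue_eq_zero_iff y).1 hx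
  rw [hm, Ideal.mem_span_singleton] at hy
  obtain ⟨z, rfl⟩ := hy
  rw [map_mul, map_natCast]
  exact Ideal.mul_mem_right _ _ (Ideal.subset_span rfl)

theorem exists_lift_step (hp : p.Prime) (hm : maximalIdeal Λ = Ideal.span {(p : Λ)}) {T T' : Type u}
    [CommRing T] [CommRing T'] (q : T →+* T') (hq : Function.Surjective q)
    (hnil : IsNilpotent (RingHom.ker q)) (N : ℕ) (hN : 1 ≤ N) (hpT : (p : T) ^ N = 0)
    (f : Λ →+* T') : ∃ F : Λ →+* T, q.comp F = f := by
  let S := Λ ⧸ Ideal.span {((p : Λ) ^ N)}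
  haveI : CharP (ZMod (p ^ N)) (p ^ N) := ZMod.charP _
  have hdvd : ∀ (A : Type u) [CommRing A], (p : A) ^ N = 0 →
      ∃ φ : ZMod (p ^ N) →+* A, True := fun A _ hA =>
    ⟨ZMod.castHom
      (show ringChar A ∣ p ^ N from (ringChar.spec A _).1 (by rw [Nat.cast_pow, hA])) A, trivial⟩
  letI : Algebra (ZMod (p ^ N)) S := (hdvd S (by
    rw [← map_natCast (Ideal.Quotient.mk _), ← map_pow, Ideal.Quotient.eq_zero_iff_mem]
    exact Ideal.subset_span rfl)).choose.toAlgebra
  letI : Algebra (ZMod (p ^ N)) T := (hdvd T hpT).choose.toAlgebra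
  haveI := formallySmooth_quot hp hm N hN
  let fS : S →+* T' := Ideal.Quotient.lift _ f fun x hx => by
    obtain ⟨y, rfl⟩ := Ideal.mem_span_singleton.1 hx
    rw [map_mul, map_pow, map_natCast, ← map_natCast q, ← map_pow, hpT, map_zero, zero_mul]
  let e : T ⧸ RingHom.ker q ≃+* T' := RingHom.quotientKerEquivOfSurjective hq
  let v : S →ₐ[ZMod (p ^ N)] T ⧸ RingHom.ker q :=
    { e.symm.toRingHom.comp fS with
      commutes' := fun c => RingHom.congr_fun (Subsingleton.elim
        ((e.symm.toRingHom.comp fS).comp (algebraMap (ZMod (p ^ N)) S)) _) c }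
  obtain ⟨w, hw⟩ := Algebra.FormallySmooth.exists_lift _ hnil v
  refine ⟨w.toRingHom.comp (Ideal.Quotient.mk _), RingHom.ext fun x => ?_⟩
  have h := congrArg e (AlgHom.congr_fun hw (Ideal.Quotient.mk _ x))
  rw [show v (Ideal.Quotient.mk _ x) = e.symm (f x) from rfl, e.apply_symm_apply] at h
  exact h

theorem exists_lift (hp : p.Prime) (hm : maximalIdeal Λ = Ideal.span {(p : Λ)}) {R : Type u}
    [CommRing R] (J : Ideal R) [IsAdicComplete J R] (hpR : (p : R) ∈ J) (h : Λ →+* R ⧸ J) :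
    ∃ F : Λ →+* R, (Ideal.Quotient.mk J).comp F = h := by
  have step : ∀ (n : ℕ) (f : Λ →+* R ⧸ J ^ (n + 1)), ∃ F : Λ →+* R ⧸ J ^ (n + 2),
      (Ideal.Quotient.factorPow J (Nat.le_succ (n + 1))).comp F = f := fun n f => by
    refine exists_lift_step hp hm _ (Ideal.Quotient.factor_surjective _) ⟨2, le_bot_iff.1 ?_⟩ (n + 2)
      (by omega) ?_ f
    · rw [Ideal.Quotient.factor_ker, ← Ideal.map_pow, ← pow_mul, Ideal.map_le_iff_le_comap]
      refine (Ideal.pow_le_pow_right (show n + 2 ≤ (n + 1) * 2 by omega)).trans fun x hx => ?_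
      rw [Ideal.mem_comap, Ideal.mem_bot, Ideal.Quotient.eq_zero_iff_mem]
      exact hx
    · rw [← map_natCast (Ideal.Quotient.mk (J ^ (n + 2))), ← map_pow, Ideal.Quotient.eq_zero_iff_mem]
      exact Ideal.pow_mem_pow hpR _
  choose next hnext using step
  let f : ∀ n : ℕ, Λ →+* R ⧸ J ^ (n + 1) := fun n => n.rec
    ((Ideal.Quotient.factor (le_of_eq (pow_one J).symm)).comp h) next
  have ha : StrictMono fun n : ℕ => n + 1 := fun a b h => by simpa using h
  have hf : ∀ {m : ℕ}, (Ideal.Quotient.factorPow J (ha.monotone m.le_succ)).comp (f (m + 1)) = f m :=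
    fun {m} => hnext m (f m)
  refine ⟨IsAdicComplete.StrictMono.liftRingHom J ha f hf, RingHom.ext fun x => ?_⟩
  have h1 := IsAdicComplete.StrictMono.mk_liftRingHom J ha f (fun {m} => hf) (n := 0) x
  have h2 := congrArg (Ideal.Quotient.factor (le_of_eq (pow_one J))) h1
  rw [Ideal.Quotient.factor_mk] at h2
  rw [RingHom.comp_apply, h2]
  show Ideal.Quotient.factor (le_of_eq (pow_one J)) (Ideal.Quotient.factor (le_of_eq (pow_one J).symm) (h x)) = h x
  obtain ⟨y, hy⟩ := Ideal.Quotient.mk_surjective (h x)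
  rw [← hy]
  simp

end

end Groth.Agent.CAlgCohen
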