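import Mathlib
import Groth.Agent.CAlgCohen.Existence
import Groth.Agent.CAlgCohen.Lift
import Groth.Agent.CAlgCompl.Basic
import Groth.Agent.MvPSLib.Eval
import Groth.Agent.S0579
import Groth.Agent.DimTheory.Algebra

/-!
Cohen structure theorems.
-/

namespace Groth.Agent.CAlgCohen

universe u

open IsLocalRing MvPowerSeries Groth.Agent.FSAdic

variable (R : Type u) [CommRing R] [IsLocalRing R]

theorem exists_cohen_map [IsAdicComplete (maximalIdeal R) R] (p : ℕ) [Fact p.Prime]
    [CharP (ResidueField R) p] :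
    ∃ (Λ : Type u) (_ : CommRing Λ) (_ : IsDomain Λ) (_ : IsDiscreteValuationRing Λ) (φ : Λ →+* R),
      IsAdicComplete (maximalIdeal Λ) Λ ∧ maximalIdeal Λ = Ideal.span {(p : Λ)} ∧
      Function.Surjective ((residue R).comp φ) := by
  obtain ⟨Λ, _, _, _, hc, hm, ⟨e⟩⟩ := exists_cohenRing p (ResidueField R)
  obtain ⟨φ, hφ⟩ := exists_lift (R := R) (Fact.out : p.Prime) hm (maximalIdeal R)
    (by rw [← residue_eq_zero_iff, map_natCast, CharP.cast_eq_zero])
    (e.toRingHom.comp (residue Λ))
  refine ⟨Λ, inferInstance, inferInstance, inferInstance, φ, hc, hm, fun x => ?_⟩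
  obtain ⟨l, hl⟩ := residue_surjective (e.symm x)
  exact ⟨l, (RingHom.congr_fun hφ l).trans (by show e (residue Λ l) = x; rw [hl, e.apply_symm_apply])⟩

theorem exists_coefficientField [IsAdicComplete (maximalIdeal R) R]
    (h : ∀ p : ℕ, p.Prime → (p : ResidueField R) = 0 → (p : R) = 0) :
    ∃ s : ResidueField R →+* R, (residue R).comp s = RingHom.id _ := by
  obtain ⟨p, hp⟩ := CharP.exists (ResidueField R)
  rcases CharP.char_is_prime_or_zero (ResidueField R) p with hpr | rfl
  · haveI := Fact.mk hpr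
    obtain ⟨Λ, _, _, _, φ, -, hm, hφ⟩ := exists_cohen_map R p
    have hker : ∀ x ∈ maximalIdeal Λ, φ x = 0 := fun x hx => by
      rw [hm, Ideal.mem_span_singleton] at hx
      obtain ⟨c, rfl⟩ := hx
      rw [map_mul, map_natCast, h p hpr (CharP.cast_eq_zero _ p), zero_mul]
    let φb : ResidueField Λ →+* R := Ideal.Quotient.lift _ φ hker
    have hbij : Function.Bijective ((residue R).comp φb) := by
      refine ⟨RingHom.injective _, fun x => ?_⟩
      obtain ⟨l, hl⟩ := hφ x
      exact ⟨residue Λ l, hl⟩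
    let e := RingEquiv.ofBijective _ hbij
    exact ⟨φb.comp e.symm.toRingHom, RingHom.ext fun x => e.apply_symm_apply x⟩
  · haveI : CharZero (ResidueField R) := CharP.charP_to_charZero _
    exact S0579.result R

variable {R}

theorem exists_eval [IsAdicComplete (maximalIdeal R) R] {Λ : Type u} [CommRing Λ] (φ : Λ →+* R)
    {n : ℕ} (z : Fin n → R) (hz : ∀ i, z i ∈ maximalIdeal R) :
    ∃ f : MvPowerSeries (Fin n) Λ →+* R, (∀ i, f (X i) = z i) ∧ ∀ a, f (C a) = φ a := by
  letI := φ.toAlgebra
  obtain ⟨ψ, hψ⟩ := MvPSLib.exists_algHom (A := Λ) (maximalIdeal R) z hz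
  exact ⟨ψ.toRingHom, hψ, ψ.commutes⟩

theorem surjective_eval [IsAdicComplete (maximalIdeal R) R] {Λ : Type u} [CommRing Λ] (φ : Λ →+* R)
    (hφ : Function.Surjective ((residue R).comp φ))
    {n : ℕ} (z : Fin n → R) (f : MvPowerSeries (Fin n) Λ →+* R) (hX : ∀ i, f (X i) = z i)
    (hC : ∀ a, f (C a) = φ a) (hz : Ideal.span (Set.range z) = maximalIdeal R) :
    Function.Surjective f := by
  have hmap : (augIdeal Λ n).map f = maximalIdeal R := by
    rw [augIdeal_eq_span, Ideal.map_span, ← Set.range_comp, ← hz]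
    exact congrArg (fun g => Ideal.span (Set.range g)) (funext hX)
  haveI : IsHausdorff ((augIdeal Λ n).map f) R := by rw [hmap]; infer_instance
  refine MvPSLib.surjective_of_mod f fun b => ?_
  obtain ⟨a, ha⟩ := hφ (residue R b)
  refine ⟨a, ?_⟩
  rw [hmap, hC, ← residue_eq_zero_iff, map_sub, ← RingHom.comp_apply, ha, sub_self]

/-- The maximal ideal of a power series ring over a local ring. -/
theorem maximalIdeal_mvPowerSeries (Λ : Type u) [CommRing Λ] [IsLocalRing Λ] (n : ℕ) :
    maximalIdeal (MvPowerSeries (Fin n) Λ) = (maximalIdeal Λ).map C ⊔ augIdeal Λ n := by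
  refine le_antisymm (fun x hx => ?_) (sup_le ?_ ?_)
  · rw [show x = C (constantCoeff x) + (x - C (constantCoeff x)) by ring]
    refine Submodule.add_mem_sup (Ideal.mem_map_of_mem _ ?_) ?_
    · rw [mem_maximalIdeal, mem_nonunits_iff] at hx ⊢
      rwa [← MvPowerSeries.isUnit_iff_constantCoeff]
    · rw [RingHom.mem_ker, map_sub, constantCoeff_C, sub_self]
  · rw [Ideal.map_le_iff_le_comap]
    intro a ha
    rw [Ideal.mem_comap, mem_maximalIdeal, mem_nonunits_iff, MvPowerSeries.isUnit_iff_constantCoeff,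
      constantCoeff_C]
    exact ha
  · exact le_maximalIdeal (fun h => by
      have h1 : (1 : MvPowerSeries (Fin n) Λ) ∈ augIdeal Λ n := h ▸ Submodule.mem_top
      rw [RingHom.mem_ker, map_one] at h1
      exact one_ne_zero h1)

theorem isAdicComplete_mvPowerSeries (Λ : Type u) [CommRing Λ] [IsLocalRing Λ] [IsNoetherianRing Λ]
    [IsAdicComplete (maximalIdeal Λ) Λ] (n : ℕ) :
    IsAdicComplete (maximalIdeal (MvPowerSeries (Fin n) Λ)) (MvPowerSeries (Fin n) Λ) := by
  let e : (MvPowerSeries (Fin n) Λ ⧸ augIdeal Λ n) ≃+* Λ :=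
    RingHom.quotientKerEquivOfSurjective (f := (constantCoeff : MvPowerSeries (Fin n) Λ →+* Λ))
      fun a => ⟨C a, constantCoeff_C a⟩
  haveI : IsAdicComplete (((maximalIdeal (MvPowerSeries (Fin n) Λ)).map
      (Ideal.Quotient.mk (augIdeal Λ n)))) (MvPowerSeries (Fin n) Λ ⧸ augIdeal Λ n) := by
    have h : (maximalIdeal Λ).map e.symm.toRingHom =
        (maximalIdeal (MvPowerSeries (Fin n) Λ)).map (Ideal.Quotient.mk (augIdeal Λ n)) := by
      rw [maximalIdeal_mvPowerSeries, Ideal.map_sup, Ideal.map_map, Ideal.map_quotient_self, sup_bot_eq]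
      congr 1
      ext a
      show e.symm a = _
      rw [RingEquiv.symm_apply_eq, RingHom.comp_apply]
      exact ((RingHom.quotientKerEquivOfSurjective_apply_mk _ _).trans (constantCoeff_C a)).symm
    rw [← h]
    exact (IsAdicComplete.congr_ringEquiv (maximalIdeal Λ) e.symm).2 inferInstance
  exact CAlgCompl.isAdicComplete_of_quotient (augIdeal Λ n) _

theorem finite_eval [IsNoetherianRing R] [IsAdicComplete (maximalIdeal R) R]
    {A : Type u} [CommRing A] [IsLocalRing A] [IsAdicComplete (maximalIdeal A) A] (f : A →+* R)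
    (hf : Function.Surjective ((residue R).comp f))
    (hle : (maximalIdeal A).map f ≤ maximalIdeal R)
    (hq : ∃ N, maximalIdeal R ^ N ≤ (maximalIdeal A).map f) : f.Finite := by
  classical
  algebraize [f]
  obtain ⟨N, hN⟩ := hq
  have key : ∀ i, ∃ T : Finset R,
      Submodule.span A (T : Set R) ⊔ (maximalIdeal R ^ i).restrictScalars A = ⊤ := by
    intro i
    induction i with
    | zero => exact ⟨∅, by simp [Ideal.one_eq_top]⟩
    | succ i ih =>
      obtain ⟨T, hT⟩ := ih
      obtain ⟨G, hG⟩ := (maximalIdeal R ^ i).fg_of_isNoetherianRing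
      refine ⟨T ∪ G, top_le_iff.1 ?_⟩
      rw [← hT, Finset.coe_union, Submodule.span_union, sup_assoc]
      refine sup_le_sup le_rfl fun x hx => ?_
      rw [Submodule.restrictScalars_mem, ← hG] at hx
      induction hx using Submodule.span_induction with
      | mem x h => exact Submodule.mem_sup_left (Submodule.subset_span h)
      | zero => exact zero_mem _
      | add a b _ _ ha hb => exact add_mem ha hb
      | smul r x hx' hx =>
        obtain ⟨a, ha⟩ := hf (residue R r)
        have hr : r - algebraMap A R a ∈ maximalIdeal R := by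
          rw [← residue_eq_zero_iff, map_sub, RingHom.algebraMap_toAlgebra, ← RingHom.comp_apply, ha, sub_self]
        rw [show r • x = a • x + (r - algebraMap A R a) * x by
          rw [Algebra.smul_def (R := A), smul_eq_mul]; ring]
        refine add_mem (Submodule.smul_mem _ a hx) (Submodule.mem_sup_right ?_)
        rw [Submodule.restrictScalars_mem, pow_succ']
        exact Ideal.mul_mem_mul hr (show x ∈ maximalIdeal R ^ i by rw [← hG]; exact hx')
  obtain ⟨T, hT⟩ := key N
  haveI : IsHausdorff (maximalIdeal A) R := by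
    rw [← IsHausdorff.map_algebraMap_iff (S := R)]
    exact MvPSLib.isHausdorff_mono hle inferInstance
  show Module.Finite A R
  refine CAlgCompl.finite_of_finite_quotient (maximalIdeal A) R ?_
  refine ⟨⟨T.image (Submodule.mkQ _), top_le_iff.1 fun y _ => ?_⟩⟩
  obtain ⟨x, rfl⟩ := Submodule.mkQ_surjective _ y
  obtain ⟨a, ha, b, hb, rfl⟩ := Submodule.mem_sup.1 (hT ▸ (Submodule.mem_top : x ∈ ⊤))
  have hb0 : Submodule.mkQ (maximalIdeal A • ⊤ : Submodule A R) b = 0 := by
    rw [Submodule.mkQ_apply, Submodule.Quotient.mk_eq_zero, Ideal.smul_top_eq_map]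
    exact hN hb
  rw [map_add, hb0, add_zero, Finset.coe_image, ← Submodule.map_span]
  exact Submodule.mem_map_of_mem ha

/-- A local map from a domain `A` with `dim A ≤ dim R`, module finite, is injective. -/
theorem injective_of_finite {A : Type u} [CommRing A] [IsDomain A] (f : A →+* R)
    (hf : f.Finite) {d : ℕ} (hA : ringKrullDim A ≤ d) (hR : ringKrullDim R = d) :
    Function.Injective f := by
  refine (injective_iff_map_eq_zero f).2 fun x hx => ?_
  by_contra hx0
  algebraize [f]
  have h1 := ringKrullDim_quotient_succ_le_of_nonZeroDivisor (mem_nonZeroDivisors_of_ne_zero hx0)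
  let g : A ⧸ Ideal.span {x} →+* R := Ideal.Quotient.lift _ f fun a ha => by
    obtain ⟨c, rfl⟩ := Ideal.mem_span_singleton.1 ha
    rw [map_mul, hx, zero_mul]
  have h2 : ringKrullDim R ≤ ringKrullDim (A ⧸ Ideal.span {x}) := by
    letI := g.toAlgebra
    haveI : IsScalarTower A (A ⧸ Ideal.span {x}) R := IsScalarTower.of_algebraMap_eq' rfl
    haveI : Module.Finite (A ⧸ Ideal.span {x}) R := Module.Finite.of_restrictScalars_finite A _ R
    exact Order.krullDim_le_of_strictMono _ (DimTheory.strictMono_comap (A ⧸ Ideal.span {x}) R)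
  rw [hR] at h2
  have h3 : (d : WithBot ℕ∞) + 1 ≤ d := le_trans (add_le_add h2 le_rfl) (h1.trans hA)
  have h4 : d + 1 ≤ d := by exact_mod_cast h3
  omega

end Groth.Agent.CAlgCohen
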