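import Mathlib
import Groth.Prelude.Def_Found
import Groth.Agent.CAlgCohen.Structure

/-!
Complete Noetherian local domains are finite over power series rings.
-/

namespace Groth.Agent.CAlgCohen

universe u

open IsLocalRing MvPowerSeries Groth.Agent.FSAdic

theorem exists_sop (R : Type u) [CommRing R] [IsLocalRing R] [IsNoetherianRing R] :
    ∃ (n : ℕ) (z : Fin n → R), ringKrullDim R = n ∧ (∀ i, z i ∈ maximalIdeal R) ∧
      ∃ N, maximalIdeal R ^ N ≤ Ideal.span (Set.range z) := by
  classical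
  obtain ⟨s, hs, hcard⟩ := (maximalIdeal R).exists_finset_card_eq_height_of_isNoetherianRing
  refine ⟨s.card, fun i => (s.equivFin.symm i : R), ?_, fun i => hs.1.2 (Ideal.subset_span (s.equivFin.symm i).2), ?_⟩
  · rw [← maximalIdeal_height_eq_ringKrullDim, ← hcard]; rfl
  · have hr : Set.range (fun i => (s.equivFin.symm i : R)) = (s : Set R) := by
      ext x
      exact ⟨fun ⟨i, hi⟩ => hi ▸ (s.equivFin.symm i).2, fun hx => ⟨s.equivFin ⟨x, hx⟩, by simp⟩⟩
    rw [hr]
    have hrad : maximalIdeal R ≤ (Ideal.span (s : Set R)).radical := by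
      rw [Ideal.radical_eq_sInf]
      refine le_sInf fun J hJ => ?_
      haveI := hJ.2
      exact hs.2 ⟨hJ.2, hJ.1⟩ (le_maximalIdeal hJ.2.ne_top)
    obtain ⟨N, hN⟩ := (Ideal.span (s : Set R)).exists_radical_pow_le_of_fg
      (IsNoetherian.noetherian _)
    exact ⟨N, (Ideal.pow_right_mono hrad N).trans hN⟩

theorem exists_sop_cons {R : Type u} [CommRing R] [IsDomain R] [IsLocalRing R] [IsNoetherianRing R]
    {x : R} (hx : x ∈ maximalIdeal R) (hx0 : x ≠ 0) {d : ℕ} (hd : ringKrullDim R = d) :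
    ∃ (n : ℕ) (y : Fin n → R), n + 1 ≤ d ∧ (∀ i, y i ∈ maximalIdeal R) ∧
      ∃ N, maximalIdeal R ^ N ≤ Ideal.span {x} ⊔ Ideal.span (Set.range y) := by
  have hne : Ideal.span {x} ≠ ⊤ := fun h => (maximalIdeal.isMaximal R).ne_top
    (top_le_iff.1 (h ▸ (Ideal.span_singleton_le_iff_mem _).2 hx))
  haveI := Ideal.Quotient.nontrivial_iff.2 hne
  haveI : IsLocalRing (R ⧸ Ideal.span {x}) :=
    .of_surjective' (Ideal.Quotient.mk _) Ideal.Quotient.mk_surjective
  obtain ⟨n, w, hn, hw, N, hN⟩ := exists_sop (R ⧸ Ideal.span {x})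
  choose y hy using fun i => Ideal.Quotient.mk_surjective (w i)
  have hmax : maximalIdeal R = (maximalIdeal (R ⧸ Ideal.span {x})).comap (Ideal.Quotient.mk _) := by
    haveI := Ideal.comap_isMaximal_of_surjective (Ideal.Quotient.mk (Ideal.span {x}))
      Ideal.Quotient.mk_surjective (K := maximalIdeal _)
    exact (IsLocalRing.eq_maximalIdeal inferInstance).symm
  refine ⟨n, y, ?_, fun i => by rw [hmax, Ideal.mem_comap, hy]; exact hw i, N, fun r hr => ?_⟩
  · have h1 := ringKrullDim_quotient_succ_le_of_nonZeroDivisor (mem_nonZeroDivisors_of_ne_zero hx0)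
    rw [hn, hd] at h1
    exact_mod_cast h1
  · have h1 : Ideal.Quotient.mk (Ideal.span {x}) r ∈
        (Ideal.span (Set.range y)).map (Ideal.Quotient.mk _) := by
      rw [Ideal.map_span, ← Set.range_comp, show ⇑(Ideal.Quotient.mk _) ∘ y = w from funext hy]
      refine hN ?_
      refine Ideal.pow_right_mono ?_ N ((Ideal.map_pow (Ideal.Quotient.mk (Ideal.span {x}))
        (maximalIdeal R) N).le (Ideal.mem_map_of_mem _ hr))
      rw [Ideal.map_le_iff_le_comap, hmax]
    rw [← Ideal.mem_comap, Ideal.comap_map_of_surjective' _ Ideal.Quotient.mk_surjective, Ideal.mk_ker,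
      sup_comm] at h1
    exact h1

variable {R : Type u} [CommRing R] [IsDomain R] [IsLocalRing R] [IsNoetherianRing R]
  [IsAdicComplete (maximalIdeal R) R]

theorem finite_injective_eval {Λ : Type u} [CommRing Λ] [IsDomain Λ] [IsLocalRing Λ]
    [IsNoetherianRing Λ] [IsAdicComplete (maximalIdeal Λ) Λ] {π : Λ}
    (hπ : maximalIdeal Λ = Ideal.span {π}) (φ : Λ →+* R) (hφπ : φ π ∈ maximalIdeal R)
    (hφ : Function.Surjective ((residue R).comp φ)) {n : ℕ} (z : Fin n → R)
    (hz : ∀ i, z i ∈ maximalIdeal R)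
    (hq : ∃ N, maximalIdeal R ^ N ≤ Ideal.span {φ π} ⊔ Ideal.span (Set.range z))
    {d : ℕ} (hd : ringKrullDim R = d) (hn : (π = 0 ∧ n ≤ d) ∨ n + 1 ≤ d) :
    ∃ f : MvPowerSeries (Fin n) Λ →+* R, Function.Injective f ∧ f.Finite ∧
      Function.Surjective ((residue R).comp f) := by
  classical
  obtain ⟨f, hX, hC⟩ := exists_eval φ z hz
  let A := MvPowerSeries (Fin n) Λ
  haveI : IsAdicComplete (maximalIdeal A) A := isAdicComplete_mvPowerSeries Λ n
  haveI : IsDomain A := NoZeroDivisors.to_isDomain _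
  have hm : maximalIdeal A = Ideal.span {C π} ⊔ Ideal.span (Set.range X) := by
    rw [maximalIdeal_mvPowerSeries, hπ, Ideal.map_span, Set.image_singleton, augIdeal_eq_span]
  have hmap : (maximalIdeal A).map f = Ideal.span {φ π} ⊔ Ideal.span (Set.range z) := by
    rw [hm, Ideal.map_sup, Ideal.map_span, Ideal.map_span, Set.image_singleton, hC, ← Set.range_comp,
      show ⇑f ∘ X = z from funext hX]
  have hres : Function.Surjective ((residue R).comp f) := fun x => by
    obtain ⟨a, ha⟩ := hφ x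
    exact ⟨C a, by rw [RingHom.comp_apply, hC]; exact ha⟩
  have hfin : f.Finite := finite_eval f hres (by
    rw [hmap]
    exact sup_le ((Ideal.span_singleton_le_iff_mem _).2 hφπ)
      (Ideal.span_le.2 fun _ ⟨i, hi⟩ => hi ▸ hz i)) (by rw [hmap]; exact hq)
  have hdim : ringKrullDim A ≤ d := by
    refine (ringKrullDim_le_spanFinrank_maximalIdeal A).trans (Nat.cast_le.2 ?_)
    rcases hn with ⟨rfl, hn⟩ | hn
    · rw [hm, map_zero, Ideal.span_singleton_zero, bot_sup_eq]
      refine (Submodule.spanFinrank_span_le_ncard_of_finite (Set.finite_range _)).trans ?_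
      rw [← Set.image_univ]
      exact (Set.ncard_image_le).trans (by simpa using hn)
    · rw [hm, ← Ideal.span_union]
      refine (Submodule.spanFinrank_span_le_ncard_of_finite
        ((Set.finite_singleton _).union (Set.finite_range _))).trans ?_
      refine (Set.ncard_union_le _ _).trans ?_
      rw [Set.ncard_singleton, ← Set.image_univ]
      have : (X (R := Λ) '' (Set.univ : Set (Fin n))).ncard ≤ n := (Set.ncard_image_le).trans (by simp)
      omega
  exact ⟨f, injective_of_finite f hfin hdim hd, hfin, hres⟩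

theorem exists_normalization :
    ∃ (Λ : Type u) (_ : CommRing Λ) (n : ℕ) (f : MvPowerSeries (Fin n) Λ →+* R),
      (IsField Λ ∨ CAlg.IsCohenRing Λ) ∧ Function.Injective f ∧ f.Finite ∧
      Function.Surjective ((residue R).comp f) := by
  obtain ⟨d, hd⟩ := CAlgReg.exists_dim (R := R)
  by_cases hmix : ∀ p : ℕ, p.Prime → (p : ResidueField R) = 0 → (p : R) = 0
  · obtain ⟨s, hs⟩ := exists_coefficientField R hmix
    obtain ⟨n, z, hn, hz, hq⟩ := exists_sop R
    have hnd : n = d := by
      rw [hn] at hd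
      exact_mod_cast hd
    haveI : IsAdicComplete (maximalIdeal (ResidueField R)) (ResidueField R) := by
      rw [isField_iff_maximalIdeal_eq.1 (Field.toIsField _)]; infer_instance
    obtain ⟨f, hf⟩ := finite_injective_eval (R := R) (π := (0 : ResidueField R))
      (by rw [Ideal.span_singleton_zero]; exact isField_iff_maximalIdeal_eq.1 (Field.toIsField _))
      s (by rw [map_zero]; exact zero_mem _) (fun x => ⟨x, RingHom.congr_fun hs x⟩) z hz
      (by rwa [map_zero, Ideal.span_singleton_zero, bot_sup_eq]) hd (.inl ⟨rfl, hnd.le⟩)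
    exact ⟨_, inferInstance, n, f, .inl (Field.toIsField _), hf⟩
  · push Not at hmix
    obtain ⟨p, hp, hp0, hpR⟩ := hmix
    haveI := Fact.mk hp
    haveI : CharP (ResidueField R) p := (CharP.charP_iff_prime_eq_zero hp).2 hp0
    obtain ⟨Λ, _, _, _, φ, hc, hm, hφ⟩ := exists_cohen_map R p
    have hpm : (p : R) ∈ maximalIdeal R := by rw [← residue_eq_zero_iff, map_natCast, hp0]
    obtain ⟨n, y, hn, hy, hq⟩ := exists_sop_cons hpm hpR hd
    obtain ⟨f, hf⟩ := finite_injective_eval (R := R) hm φ (by rwa [map_natCast]) hφ y hy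
      (by rwa [map_natCast]) hd (.inr hn)
    exact ⟨Λ, inferInstance, n, f, .inr ⟨inferInstance, inferInstance, hc, p, hp, hm⟩, hf⟩

end Groth.Agent.CAlgCohen
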